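import Groth.Agent.VarMods75.ZeroDim
import Groth.Agent.Crv77.Twist
import Groth.Agent.QC70.HomLocFree

/-! Additive functions on coherent modules are determined by the top-dimensional lengths. -/

set_option autoImplicit false
set_option backward.isDefEq.respectTransparency.types false
universe u

open CategoryTheory CategoryTheory.Limits AlgebraicGeometry TopologicalSpace Opposite

noncomputable section

namespace Groth.Agent.VarMods75

variable {X : Scheme.{u}}

/-- An isomorphism invariant additive function on coherent modules. -/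
structure AddFn (f : X.Modules → ℚ) : Prop where
  iso : ∀ {M N : X.Modules}, (M ≅ N) → f M = f N
  add : ∀ {S : ShortComplex X.Modules}, S.ShortExact → Coh.IsCoh S.X₁ → Coh.IsCoh S.X₂ → Coh.IsCoh S.X₃ →
    f S.X₂ = f S.X₁ + f S.X₃

theorem AddFn.of_isZero {f : X.Modules → ℚ} (hf : AddFn f) {M : X.Modules} (hM : IsZero M) : f M = 0 := by
  have hc : Coh.IsCoh M := QC70.isCoh_of_isZero hM
  have hS : (ShortComplex.mk (0 : M ⟶ M) (𝟙 M) (by simp)).ShortExact :=
    ShortComplex.Splitting.shortExact
      { r := 0
        s := 𝟙 M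
        f_r := hM.eq_of_src _ _
        s_g := by simp
        id := by simp }
  have := hf.add hS hc hc hc
  dsimp only at this
  linarith

theorem AddFn.biproduct {f : X.Modules → ℚ} (hf : AddFn f) {G : X.Modules} (hG : Coh.IsCoh G) :
    ∀ m : ℕ, f (⨁ fun _ : Fin m => G) = m * f G
  | 0 => by
    rw [hf.of_isZero]
    · simp
    · rw [IsZero.iff_id_eq_zero]
      exact biproduct.hom_ext _ _ fun i => i.elim0
  | m + 1 => by
    have h := hf.add (QC70.consSC_shortExact fun _ : Fin (m + 1) => G) hG
      (QC70.isCoh_biproduct _ fun _ => hG) (QC70.isCoh_biproduct _ fun _ => hG)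
    refine h.trans ?_
    show f G + f (⨁ fun _ : Fin m => G) = _
    rw [AddFn.biproduct hf hG m]
    push_cast
    ring

/-- An additive function vanishing in dimension below `d` only sees the lengths at the points of
dimension `d`. -/
theorem AddFn.eq_sum_len [IsNoetherian X] {f : X.Modules → ℚ} (hf : AddFn f) {d : ℕ}
    (hlow : ∀ M : X.Modules, Coh.IsCoh M → topologicalKrullDim (CohB1.support M) < (d : WithBot ℕ∞) → f M = 0)
    {S : Set X} (hSc : IsClosed S) (hd : topologicalKrullDim S ≤ (d : WithBot ℕ∞)) {T : Finset X}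
    (hT : ∀ η : X, η ∈ T ↔ η ∈ S ∧ topologicalKrullDim (closure ({η} : Set X)) = (d : WithBot ℕ∞))
    {F : X.Modules} (hF : Coh.IsCoh F) (hFS : CohB1.support F ⊆ S) :
    f F = ∑ η ∈ T, Snapper75.len F η * f (Snapper75.ptMod η) := by
  classical
  have hT' : ∀ η ∈ T, topologicalKrullDim (closure ({η} : Set X)) = (d : WithBot ℕ∞) :=
    fun η hη => ((hT η).1 hη).2
  let g : X.Modules → ℚ := fun M => f M - ∑ η ∈ T, Snapper75.len M η * f (Snapper75.ptMod η)
  have hgiso : ∀ {M N : X.Modules}, (M ≅ N) → g M = g N := fun {M N} e => by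
    have : ∀ η : X, Snapper75.len M η = Snapper75.len N η := fun η => by
      have hb : Function.Bijective (QC70.stalkLinear e.hom η) :=
        ⟨QC70.injective_stalkMapM_of_mono e.hom η, QC70.surjective_stalkMapM_of_epi e.hom η⟩
      simp only [Snapper75.len, (LinearEquiv.ofBijective _ hb).length_eq]
    simp only [g, hf.iso e, this]
  have hgadd : ∀ {E : ShortComplex X.Modules}, E.ShortExact → Coh.IsCoh E.X₁ → Coh.IsCoh E.X₂ →
      Coh.IsCoh E.X₃ → CohB1.support E.X₂ ⊆ S → g E.X₂ = g E.X₁ + g E.X₃ := by
    intro E hE h₁ h₂ h₃ hS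
    have : ∀ η ∈ T, Snapper75.len E.X₂ η = Snapper75.len E.X₁ η + Snapper75.len E.X₃ η := fun η hη => by
      have hne := Snapper75.length_ne_top h₂ hS hd (hT' η hη)
      rw [Snapper75.length_stalk_add hE η] at hne
      simp only [Snapper75.len, Snapper75.length_stalk_add hE η]
      rw [ENat.toNat_add (fun e => hne (by rw [e, top_add])) (fun e => hne (by rw [e, add_top]))]
      push_cast
      rfl
    simp only [g, hf.add hE h₁ h₂ h₃]
    rw [Finset.sum_congr rfl fun η hη => by rw [this η hη, add_mul], Finset.sum_add_distrib]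
    ring
  suffices h : g F = 0 by exact sub_eq_zero.1 h
  have hzero : ∀ M, IsZero M → g M = 0 := fun M hM => by
    have : ∀ η : X, Snapper75.len M η = 0 := fun η => Snapper75.len_eq_zero (QC70.notMem_support_iff.2 (by
      refine subsingleton_of_forall_eq 0 fun e => ?_
      obtain ⟨W, hW, s, rfl⟩ := QC70.germM_exist e
      rw [show s = 0 by simpa using congr($(hM.eq_of_src (𝟙 M) 0).app W s), QC70.germM_zero]))
    simp [g, hf.of_isZero hM, this]
  refine QC70.devissage
    (fun M => Coh.IsCoh M → CohB1.support M ⊆ S → g M = 0)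
    (fun M N ⟨e⟩ h hN hNS => (hgiso e).symm.trans (h (QC70.isCoh_of_iso e.symm hN)
      ((Snapper75.support_iso_subset e).trans hNS)))
    (fun M hM _ _ => hzero M hM)
    (fun E hE h₁ h₂ h₃ p₁ p₃ _ hS => by
      rw [hgadd hE h₁ h₂ h₃ hS, p₁ h₁ ((Snapper75.support_X₁_subset hE).trans hS),
        p₃ h₃ ((Snapper75.support_X₃_subset hE).trans hS), add_zero])
    (fun G m hG hm hP _ hGS => ?_) S hSc (fun y hy IH => ?_) F hF hFS hF hFS
  · let e := biproduct.isoCoproduct fun _ : Fin m => G
    have hb : CohB1.support (⨁ fun _ : Fin m => G) ⊆ S :=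
      (QC70.support_biproduct_subset fun _ : Fin m => G).trans (Set.iUnion_subset fun _ => hGS)
    have h := hP (QC70.isCoh_of_iso e (QC70.isCoh_biproduct _ fun _ => hG))
      ((Snapper75.support_iso_subset e.symm).trans hb)
    have hmul : ∀ l : ℕ, g (⨁ fun _ : Fin l => G) = l * g G := by
      intro l
      induction l with
      | zero =>
        rw [hzero]
        · simp
        · rw [IsZero.iff_id_eq_zero]
          exact biproduct.hom_ext _ _ fun i => i.elim0
      | succ l ih =>
        refine (hgadd (QC70.consSC_shortExact fun _ : Fin (l + 1) => G) hG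
          (QC70.isCoh_biproduct _ fun _ => hG) (QC70.isCoh_biproduct _ fun _ => hG)
          ((QC70.support_biproduct_subset fun _ : Fin (l + 1) => G).trans (Set.iUnion_subset fun _ => hGS))).trans ?_
        show g G + g (⨁ fun _ : Fin l => G) = _
        rw [ih]
        push_cast
        ring
    rw [← hgiso e, hmul] at h
    exact (mul_eq_zero.1 h).resolve_left (Nat.cast_ne_zero.2 (by omega))
  · have hyS : closure ({y} : Set X) ⊆ S := hSc.closure_subset_iff.2 (Set.singleton_subset_iff.2 hy)
    have hG : Coh.IsCoh (Snapper75.ptMod y) := Crv77.isCoh_quotMod _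
    haveI := hG.1
    haveI := hG.2
    have hlen := Snapper75.length_ptMod y
    have hGy : y ∈ CohB1.support (Snapper75.ptMod y) := fun hsub => by
      rw [Module.length_eq_zero_iff.2 hsub] at hlen
      exact zero_ne_one hlen
    have hkill : ∀ a ∈ IsLocalRing.maximalIdeal (X.presheaf.stalk y),
        ∀ m : (Snapper75.ptMod y).presheaf.stalk y, a • m = 0 := by
      haveI : IsSimpleModule (X.presheaf.stalk y) ((Snapper75.ptMod y).presheaf.stalk y) :=
        Module.length_eq_one_iff.1 hlen
      intro a ha m
      obtain ⟨J, hJ, ⟨e⟩⟩ := isSimpleModule_iff_quot_maximal.1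
        (inferInstance : IsSimpleModule (X.presheaf.stalk y) ((Snapper75.ptMod y).presheaf.stalk y))
      refine e.injective ?_
      rw [map_smul, map_zero]
      obtain ⟨c, hc⟩ := Submodule.Quotient.mk_surjective _ (e m)
      rw [← hc, ← Submodule.Quotient.mk_smul, Submodule.Quotient.mk_eq_zero]
      exact Ideal.mul_mem_right _ _ (IsLocalRing.eq_maximalIdeal hJ ▸ ha)
    have hGS := (Snapper75.support_ptMod y).trans hyS
    have hGP : g (Snapper75.ptMod y) = 0 := by
      by_cases hyd : topologicalKrullDim (closure ({y} : Set X)) = (d : WithBot ℕ∞)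
      · have hyT : y ∈ T := (hT y).2 ⟨hy, hyd⟩
        have h1 : Snapper75.len (Snapper75.ptMod y) y = 1 := by simp [Snapper75.len, hlen]
        simp only [g]
        rw [Finset.sum_eq_single_of_mem y hyT, h1, one_mul, sub_self]
        intro η hη hne
        rw [Snapper75.len_eq_zero, zero_mul]
        intro hmem
        exact hne (Snapper75.eq_of_dim_eq (hT' η hη) hyd.le
          (specializes_iff_mem_closure.2 (Snapper75.support_ptMod y hmem))).symm
      · have hlt : topologicalKrullDim (closure ({y} : Set X)) < (d : WithBot ℕ∞) :=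
          lt_of_le_of_ne (le_trans (LC17.dim_mono hyS) hd) hyd
        simp only [g]
        rw [Finset.sum_eq_zero, sub_zero]
        · exact hlow _ hG (lt_of_le_of_lt (LC17.dim_mono (Snapper75.support_ptMod y)) hlt)
        · intro η hη
          rw [Snapper75.len_eq_zero, zero_mul]
          intro hmem
          exact lt_irrefl _ ((hT' η hη).symm.le.trans_lt (lt_of_le_of_lt (LC17.dim_mono
            (isClosed_closure.closure_subset_iff.2 (Set.singleton_subset_iff.2
              (Snapper75.support_ptMod y hmem)))) hlt))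
    refine ⟨Snapper75.ptMod y, hG, not_subsingleton_iff_nontrivial.1 hGy, hkill, fun J hJ => ?_⟩
    refine ⟨_, 𝟙 _, inferInstance, QC70.isCoh_idealMul J hG, ?_, fun hc _ => ?_⟩
    · rw [Category.id_comp]
      exact QC70.bijective_stalk_idealMulι J _ hJ
    · have h2 := hgadd (QC70.quotSC_shortExact J (Snapper75.ptMod y)) hc hG (QC70.isCoh_quot J hG) hGS
      have hq := IH _ (QC70.isCoh_quot J hG)
        ((QC70.support_quot_subset_left J _).trans (Snapper75.support_ptMod y))
        (QC70.notMem_support_iff.2 (QC70.subsingleton_stalk_cokernel _ y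
          (QC70.bijective_stalk_idealMulι J _ hJ).2)) (QC70.isCoh_quot J hG)
        ((QC70.support_quot_subset_left J _).trans hGS)
      change g (Snapper75.ptMod y) = g ((Dual3.idealMul J).obj (Snapper75.ptMod y)) + _ at h2
      linarith

/-- Tensoring with a finite locally free module preserves short exact sequences. -/
theorem shortExact_tensor {E : X.Modules} (hE : FlatMod.IsFinLocFree E) {S : ShortComplex X.Modules}
    (hS : S.ShortExact) : ∃ T : ShortComplex X.Modules, T.ShortExact ∧ T.X₁ = CohB1.tensorMod S.X₁ E ∧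
      T.X₂ = CohB1.tensorMod S.X₂ E ∧ T.X₃ = CohB1.tensorMod S.X₃ E :=
  ⟨_, Crv77.shortExact_tR_of_locally_flat (O := X.sheaf) E (QC70.locally_flat_of_isFinLocFree hE) hS,
    rfl, rfl, rfl⟩

/-- Twisting by a finite locally free module, less its rank, kills dimension zero and is additive. -/
theorem addFn_tensor (k : Type u) [Field k] [X.Over (Spec (CommRingCat.of k))]
    [IsProper (X ↘ (Spec (CommRingCat.of k)))] {n : ℕ} {E : X.Modules}
    (hE : FlatMod.IsFinLocFreeOfRank n E) :
    AddFn (fun M => (Curv2.euler k X (CohB1.tensorMod M E) : ℚ) - n * (Curv2.euler k X M : ℚ)) where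
  iso e := by
    simp only [Crv77.euler_congr (k := k) (EGA73.tensIso e (Iso.refl E)), Crv77.euler_congr (k := k) e]
  add {S} hS h₁ h₂ h₃ := by
    obtain ⟨T, hT, e₁, e₂, e₃⟩ := shortExact_tensor (isFinLocFree hE) hS
    have h := Snapper75.euler_add k hT (e₁ ▸ Crv77.isCoh_tensorMod h₁ (isCoh hE))
      (e₂ ▸ Crv77.isCoh_tensorMod h₂ (isCoh hE)) (e₃ ▸ Crv77.isCoh_tensorMod h₃ (isCoh hE))
    rw [e₁, e₂, e₃] at h
    simp only [h, Snapper75.euler_add k hS h₁ h₂ h₃]
    push_cast
    ring

theorem len_finLocFree {n : ℕ} {E : X.Modules} (hE : FlatMod.IsFinLocFreeOfRank n E) (x : X) :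
    Snapper75.len E x = n * Snapper75.len (Coh.structureModule X) x := by
  haveI : (Coh.structureModule X).IsQuasicoherent := QC70.isQuasicoherent_unit (X := X)
  have h := length_stalk_tensor hE (Coh.structureModule X) x
  have hb : Function.Bijective (QC70.stalkLinear (EGA73.tensUnitLeft E).hom x) :=
    ⟨QC70.injective_stalkMapM_of_mono _ x, QC70.surjective_stalkMapM_of_epi _ x⟩
  rw [(LinearEquiv.ofBijective _ hb).length_eq] at h
  simp only [Snapper75.len, h, ENat.toNat_mul, ENat.toNat_coe]
  push_cast
  rfl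

/-- On a proper scheme of dimension at most one, the defect of a twist is a multiple of the lengths. -/
theorem exists_euler_tensor_formula (k : Type u) [Field k] [X.Over (Spec (CommRingCat.of k))]
    [IsProper (X ↘ (Spec (CommRingCat.of k)))] (hdim : topologicalKrullDim X ≤ 1) {n : ℕ} {E : X.Modules}
    (hE : FlatMod.IsFinLocFreeOfRank n E) :
    ∃ (T : Finset X) (c : X → ℚ),
      (∀ η : X, η ∈ T ↔ topologicalKrullDim (closure ({η} : Set X)) = (1 : WithBot ℕ∞)) ∧
      ∀ F : X.Modules, Coh.IsCoh F →
        (Curv2.euler k X (CohB1.tensorMod F E) : ℚ) - n * (Curv2.euler k X F : ℚ) =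
          ∑ η ∈ T, Snapper75.len F η * c η := by
  classical
  haveI := Crv77.isNoetherian_of_proper k X
  have hd : topologicalKrullDim (Set.univ : Set X) ≤ ((1 : ℕ) : WithBot ℕ∞) :=
    le_trans (topologicalKrullDim_subspace_le X _) (by simpa using hdim)
  let T := (Snapper75.finite_top_points isClosed_univ hd).toFinset
  have hT : ∀ η : X, η ∈ T ↔ η ∈ (Set.univ : Set X) ∧
      topologicalKrullDim (closure ({η} : Set X)) = ((1 : ℕ) : WithBot ℕ∞) := fun η => Set.Finite.mem_toFinset _
  refine ⟨T, fun η => (Curv2.euler k X (CohB1.tensorMod (Snapper75.ptMod η) E) : ℚ) -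
      n * (Curv2.euler k X (Snapper75.ptMod η) : ℚ), fun η => by simpa using hT η, fun F hF => ?_⟩
  refine (addFn_tensor k hE).eq_sum_len (fun M hM hlt => ?_) isClosed_univ hd hT hF (Set.subset_univ _)
  rw [euler_tensor_of_dim_zero k hM (by simpa using Snapper75.le_of_lt_succ (d := 0) (by simpa using hlt)) hE]
  push_cast
  ring

end Groth.Agent.VarMods75

end
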