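import Groth.Agent.VarMods75.Rank
import Groth.Agent.QCTens72.Basic
import Groth.Agent.FBase64.AssTensor.PullLength

/-! Euler characteristics of modules with zero-dimensional support. -/

set_option autoImplicit false
set_option backward.isDefEq.respectTransparency.types false
universe u

open CategoryTheory CategoryTheory.Limits AlgebraicGeometry TopologicalSpace Opposite TensorProduct

noncomputable section

namespace Groth.Agent.VarMods75

variable {X : Scheme.{u}}

theorem length_stalk_tensor {n : ℕ} {E : X.Modules} (hE : FlatMod.IsFinLocFreeOfRank n E) (F : X.Modules)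
    [F.IsQuasicoherent] (x : X) :
    Module.length (X.presheaf.stalk x) ((CohB1.tensorMod F E).presheaf.stalk x) =
      n * Module.length (X.presheaf.stalk x) (F.presheaf.stalk x) := by
  have : E.IsQuasicoherent := (isCoh hE).1
  obtain ⟨e⟩ := nonempty_stalk_equiv hE x
  obtain ⟨t⟩ := FBase64.AssTensor.nonempty_stalkTensorEquiv F E x
  rw [(t ≪≫ₗ TensorProduct.congr (LinearEquiv.refl _ _) e ≪≫ₗ
      TensorProduct.piScalarRight _ _ _ _).length_eq,
    Module.length_pi, ENat.card_eq_coe_fintype_card, Fintype.card_fin]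

theorem support_tensor_subset {n : ℕ} {E : X.Modules} (hE : FlatMod.IsFinLocFreeOfRank n E) (F : X.Modules)
    [F.IsQuasicoherent] : CohB1.support (CohB1.tensorMod F E) ⊆ CohB1.support F := fun x hx hF => by
  refine hx ?_
  have : E.IsQuasicoherent := (isCoh hE).1
  obtain ⟨t⟩ := FBase64.AssTensor.nonempty_stalkTensorEquiv F E x
  exact t.injective.subsingleton

variable (k : Type u) [Field k] [X.Over (Spec (CommRingCat.of k))]
  [IsProper (X ↘ (Spec (CommRingCat.of k)))]

/-- In dimension zero the Euler characteristic is determined by the lengths of the stalks. -/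
theorem euler_eq_sum_len {S : Set X} (hSc : IsClosed S) (hd : topologicalKrullDim S ≤ (0 : WithBot ℕ∞))
    {T : Finset X}
    (hT : ∀ η : X, η ∈ T ↔ η ∈ S ∧ topologicalKrullDim (closure ({η} : Set X)) = ((0 : ℕ) : WithBot ℕ∞))
    {F : X.Modules} (hF : Coh.IsCoh F) (hFS : CohB1.support F ⊆ S) :
    (Curv2.euler k X F : ℚ) =
      ∑ η ∈ T, Snapper75.len F η * (Curv2.euler k X (Snapper75.ptMod η) : ℚ) := by
  have hd' : topologicalKrullDim S ≤ ((0 : ℕ) : WithBot ℕ∞) := by simpa using hd
  have h := Snapper75.defect_mem_polySub (r := 0) (L := Fin.elim0) k (fun i => i.elim0) hSc hd' hT hF hFS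
  rw [Snapper75.polySub_zero, Submodule.mem_bot] at h
  have h0 := congrFun h Fin.elim0
  simp only [Snapper75.defect, Pi.sub_apply, Finset.sum_apply, Pi.smul_apply, smul_eq_mul, Pi.zero_apply,
    sub_eq_zero] at h0
  exact h0

theorem euler_tensor_of_dim_zero {F : X.Modules} (hF : Coh.IsCoh F)
    (hsupp : topologicalKrullDim (CohB1.support F) ≤ (0 : WithBot ℕ∞)) {n : ℕ} {E : X.Modules}
    (hE : FlatMod.IsFinLocFreeOfRank n E) :
    Curv2.euler k X (CohB1.tensorMod F E) = n * Curv2.euler k X F := by
  classical
  haveI := Crv77.isNoetherian_of_proper k X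
  haveI := hF.1
  haveI := hF.2
  have hSc := QC70.isClosed_support F
  let T := (Snapper75.finite_top_points (d := 0) hSc (by simpa using hsupp)).toFinset
  have hT : ∀ η : X, η ∈ T ↔ η ∈ CohB1.support F ∧
      topologicalKrullDim (closure ({η} : Set X)) = ((0 : ℕ) : WithBot ℕ∞) := fun η => Set.Finite.mem_toFinset _
  have h1 := euler_eq_sum_len k hSc hsupp hT hF subset_rfl
  have h2 := euler_eq_sum_len k hSc hsupp hT (Crv77.isCoh_tensorMod hF (isCoh hE))
    (support_tensor_subset hE F)
  refine Int.cast_injective (α := ℚ) ?_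
  push_cast
  rw [h1, h2, Finset.mul_sum]
  refine Finset.sum_congr rfl fun η _ => ?_
  simp only [Snapper75.len, length_stalk_tensor hE F η, ENat.toNat_mul, ENat.toNat_coe]
  push_cast
  ring

end Groth.Agent.VarMods75

end
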