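import Groth.Agent.Props58.LocFree.Basis
import Groth.Agent.Props58.LocFree.Criteria
import Groth.Agent.Snapper75.Top
import Mathlib.Algebra.Exact.Basic

/-! Ranks of finite locally free modules. -/

set_option autoImplicit false
set_option backward.isDefEq.respectTransparency.types false
universe u

open CategoryTheory CategoryTheory.Limits AlgebraicGeometry TopologicalSpace Opposite

noncomputable section

namespace Groth.Agent.VarMods75

variable {X : Scheme.{u}}

theorem isFinLocFree {n : ℕ} {E : X.Modules} (h : FlatMod.IsFinLocFreeOfRank n E) : FlatMod.IsFinLocFree E :=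
  fun x => (h x).imp fun _ hU => ⟨n, hU⟩

theorem isCoh {n : ℕ} {E : X.Modules} (h : FlatMod.IsFinLocFreeOfRank n E) : Coh.IsCoh E :=
  ⟨Props58.LocFree.isQuasicoherent_of_isFinLocFree (isFinLocFree h),
    Props58.LocFree.isFiniteType_of_isFinLocFree (isFinLocFree h)⟩

theorem nonempty_stalk_equiv {n : ℕ} {E : X.Modules} (h : FlatMod.IsFinLocFreeOfRank n E) (x : X) :
    Nonempty (E.presheaf.stalk x ≃ₗ[X.presheaf.stalk x] (Fin n → X.presheaf.stalk x)) := by
  obtain ⟨U, hU, ⟨φ⟩⟩ := h x
  obtain ⟨s, hs⟩ := Props58.LocFree.exists_stalkBasis_of_iso φ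
  exact ⟨(hs.stalkEquiv x hU).symm⟩

theorem rank_add {S : ShortComplex X.Modules} (hS : S.ShortExact) {n₁ n₂ n₃ : ℕ}
    (h₁ : FlatMod.IsFinLocFreeOfRank n₁ S.X₁) (h₂ : FlatMod.IsFinLocFreeOfRank n₂ S.X₂)
    (h₃ : FlatMod.IsFinLocFreeOfRank n₃ S.X₃) (x : X) : n₂ = n₁ + n₃ := by
  obtain ⟨e₁⟩ := nonempty_stalk_equiv h₁ x
  obtain ⟨e₂⟩ := nonempty_stalk_equiv h₂ x
  obtain ⟨e₃⟩ := nonempty_stalk_equiv h₃ x
  have := hS.mono_f
  have := hS.epi_g
  have : Module.Free (X.presheaf.stalk x) (S.X₃.presheaf.stalk x) := Module.Free.of_equiv e₃.symm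
  have hex : Function.Exact (QC70.stalkLinear S.f x) (QC70.stalkLinear S.g x) :=
    Function.Exact.of_comp_of_mem_range (funext fun e => by
        change QC70.stalkMapM S.g x (QC70.stalkMapM S.f x e) = 0
        obtain ⟨W, hxW, s, rfl⟩ := QC70.germM_exist e
        rw [QC70.stalkMapM_germ, QC70.stalkMapM_germ, ← QC70.germM_zero (M := S.X₃) hxW]
        congr 1
        exact congr($(S.zero).app W s))
      (fun e he => QC70.stalkMapM_exact S hS.exact x e he)
  obtain ⟨s, hs⟩ := Module.projective_lifting_property (QC70.stalkLinear S.g x) LinearMap.id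
    (QC70.surjective_stalkMapM_of_epi S.g x)
  let e := (hex.splitSurjectiveEquiv (QC70.injective_stalkMapM_of_mono S.f x) ⟨s, hs⟩).1
  have := (e₂.symm.trans (e.trans (e₁.prodCongr e₃))).finrank_eq
  simpa [Module.finrank_prod, Module.finrank_fin_fun] using this

end Groth.Agent.VarMods75

end
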